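import Mathlib
import Cfsg.Agent.S0335
import Cfsg.Agent.Lib.Helper5.MultSL2.Pairing

set_option autoImplicit false
set_option linter.style.haveILetI false
set_option linter.unusedSectionVars false

/-!
Invariant pairings for the Suzuki torus action: a biadditive pairing `β` on a field with `2^(2m+1) ≥ 32`
elements with `β (l a) (l^(θ+1) b) = β a b` for all `l ≠ 0` is trivial.
-/

namespace Cfsg.Agent.Lib.Helper5.MultSz

open Polynomial Cfsg.Agent.S0335

variable {F : Type*} [Field F] [Fintype F]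

/-- the obstruction polynomial -/
noncomputable def suzPoly (F : Type*) [Field F] (θ : ℕ) : F[X] :=
  X ^ (θ + 1) + (X + 1) ^ (θ + 1) * (X ^ (θ + 1) + 1)

theorem suzPoly_ne_zero (θ : ℕ) : suzPoly F θ ≠ 0 := by
  intro h
  have := congrArg (Polynomial.eval 0) h
  simp [suzPoly] at this

theorem natDegree_suzPoly_le (θ : ℕ) : (suzPoly F θ).natDegree ≤ 2 * θ + 2 := by
  unfold suzPoly
  have h0 : ((X : F[X]) ^ (θ + 1)).natDegree ≤ θ + 1 := by
    rw [natDegree_X_pow]
  have h1 : (((X : F[X]) + 1) ^ (θ + 1)).natDegree ≤ θ + 1 := by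
    refine natDegree_pow_le.trans ?_
    have : ((X : F[X]) + 1).natDegree ≤ 1 := by
      have := natDegree_X_add_C (R := F) (1 : F)
      rw [map_one] at this
      exact this.le
    calc (θ + 1) * ((X : F[X]) + 1).natDegree ≤ (θ + 1) * 1 := Nat.mul_le_mul_left _ this
      _ = θ + 1 := mul_one _
  have h2 : ((X : F[X]) ^ (θ + 1) + 1).natDegree ≤ θ + 1 := by
    refine (natDegree_add_le _ _).trans (max_le h0 ?_)
    rw [natDegree_one]; omega
  refine (natDegree_add_le _ _).trans (max_le (h0.trans (by omega)) ?_)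
  refine natDegree_mul_le.trans ?_
  omega

theorem exists_good (m : ℕ) (hm : 2 ≤ m) (hF : Fintype.card F = 2 ^ (2 * m + 1)) :
    ∃ l : F, l ≠ 0 ∧ l ≠ 1 ∧ (suzPoly F (2 ^ (m + 1))).eval l ≠ 0 := by
  classical
  by_contra hcon
  push Not at hcon
  set P := suzPoly F (2 ^ (m + 1)) with hP
  have hsub : (Finset.univ : Finset F) ⊆ insert 0 (insert 1 P.roots.toFinset) := by
    intro l _
    by_cases h0 : l = 0
    · simp [h0]
    by_cases h1 : l = 1
    · simp [h1]
    have := hcon l h0 h1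
    rw [Finset.mem_insert, Finset.mem_insert, Multiset.mem_toFinset,
      mem_roots (suzPoly_ne_zero _)]
    exact Or.inr (Or.inr this)
  have hcard := Finset.card_le_card hsub
  have h3 : (insert 0 (insert 1 P.roots.toFinset)).card ≤ (2 * 2 ^ (m + 1) + 2) + 1 + 1 := by
    refine (Finset.card_insert_le _ _).trans (Nat.succ_le_succ ?_)
    refine (Finset.card_insert_le _ _).trans (Nat.succ_le_succ ?_)
    exact (Multiset.toFinset_card_le _).trans ((card_roots' _).trans (natDegree_suzPoly_le _))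
  rw [Finset.card_univ, hF] at hcard
  have e1 : 2 ^ (2 * m + 1) = 2 ^ (m + 1) * 2 ^ m := by
    rw [← pow_add]; congr 1; omega
  have e2 : 4 ≤ 2 ^ m := by
    calc 4 = 2 ^ 2 := by norm_num
      _ ≤ 2 ^ m := Nat.pow_le_pow_right (by norm_num) hm
  have e3 : 8 ≤ 2 ^ (m + 1) := by
    rw [pow_succ]; omega
  have := hcard.trans h3
  nlinarith

variable {A : Type*} [CommGroup A]

/-- **Suzuki pairing lemma** -/
theorem suz_pairing_trivial [CharP F 2] (m : ℕ) (hm : 2 ≤ m) (hF : Fintype.card F = 2 ^ (2 * m + 1))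
    (β : F → F → A)
    (hl : ∀ a a' b, β (a + a') b = β a b * β a' b)
    (hr : ∀ a b b', β a (b + b') = β a b * β a b')
    (hinv : ∀ l : F, l ≠ 0 → ∀ a b, β (l * a) (sg m l * l * b) = β a b) (a b : F) :
    β a b = 1 := by
  obtain ⟨l, hl0, hl1, hPl⟩ := exists_good (F := F) m hm hF
  have h2 : (2 : F) = 0 := CharP.cast_eq_zero F 2
  have hl' : l + 1 ≠ 0 := by
    intro h
    apply hl1
    linear_combination h - h2
  set μ := sg m l * l with hμ
  set ν := sg m (l + 1) * (l + 1) with hν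
  have hμ0 : μ ≠ 0 := by
    rw [hμ]
    exact mul_ne_zero (fun h => hl0 (sg_eq_zero m l h)) hl0
  have hsq : ∀ a b, β a b * β a b = 1 := by
    intro a b
    rw [← hr]
    have : b + b = 0 := by linear_combination b * h2
    rw [this]
    exact MultSL2.pair_zero_right β hr a
  -- the key identity
  have key : ∀ a b, β a ((1 + ν + μ⁻¹ * ν) * b) = 1 := by
    intro a b
    have e1 : β a b = β ((l + 1) * a) (ν * b) := (hinv (l + 1) hl' a b).symm
    have e2 : (l + 1) * a = a + l * a := by ring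
    have e3 : β (l * a) (ν * b) = β a (μ⁻¹ * ν * b) := by
      have := hinv l hl0 a (μ⁻¹ * ν * b)
      rw [← this]
      congr 1
      rw [← hμ]
      field_simp
    rw [e2, hl, e3] at e1
    have e4 : (1 + ν + μ⁻¹ * ν) * b = b + (ν * b + μ⁻¹ * ν * b) := by ring
    rw [e4, hr, hr, ← e1, hsq]
  have hc : 1 + ν + μ⁻¹ * ν ≠ 0 := by
    intro h
    apply hPl
    have e5 : (suzPoly F (2 ^ (m + 1))).eval l = μ * (1 + ν + μ⁻¹ * ν) := by
      simp only [suzPoly, eval_add, eval_mul, eval_pow, eval_X, eval_one]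
      rw [hμ, hν]
      unfold sg
      have hne : l ^ 2 ^ (m + 1) * l ≠ 0 := hμ0
      field_simp
      ring
    rw [e5, h, mul_zero]
  have := key a ((1 + ν + μ⁻¹ * ν)⁻¹ * b)
  rwa [mul_inv_cancel_left₀ hc] at this

end Cfsg.Agent.Lib.Helper5.MultSz
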