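import Mathlib
import Cfsg.Agent.Lib.Helper5.MultSz.Pair
import Cfsg.Agent.Lib.Helper5.MultSL2.Nine
import Cfsg.Agent.Lib.Helper5.SuzukiPartition
import Cfsg.Agent.Lib.Helper5.SuzukiStab
import Cfsg.Agent.Lib.Helper5.SuzukiBridge

set_option autoImplicit false
set_option linter.style.haveILetI false
set_option linter.unusedSectionVars false

/-!
Stem extensions of the Suzuki groups `Sz(q)`, `q ≥ 32`, are trivial.
-/

namespace Cfsg.Agent.Lib.Helper5.MultSz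

open Cfsg Cfsg.Agent.S0335 Cfsg.Agent.Lib.Helper5.Suzuki Cfsg.Agent.Lib.Helper5.MultSL2
open scoped commutatorElement IsMulCommutative

section general
variable {Γ : Type*} [Group Γ]

theorem comm_mul_left' {g g' h : Γ} (hc : ⁅g', h⁆ * g = g * ⁅g', h⁆) :
    ⁅g * g', h⁆ = ⁅g', h⁆ * ⁅g, h⁆ := by
  calc ⁅g * g', h⁆ = g * ⁅g', h⁆ * h * g⁻¹ * h⁻¹ := by
        rw [commutatorElement_def, commutatorElement_def]; group
    _ = ⁅g', h⁆ * g * h * g⁻¹ * h⁻¹ := by rw [hc]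
    _ = ⁅g', h⁆ * ⁅g, h⁆ := by rw [commutatorElement_def g h]; group

theorem comm_mul_right' {g h h' : Γ} (hc : ⁅g, h'⁆ * h = h * ⁅g, h'⁆) :
    ⁅g, h * h'⁆ = ⁅g, h⁆ * ⁅g, h'⁆ := by
  have h1 : ⁅g, h'⁆ * h⁻¹ = h⁻¹ * ⁅g, h'⁆ := by
    have := congrArg (fun x => h⁻¹ * x * h⁻¹) hc
    beta_reduce at this
    rw [show h⁻¹ * (⁅g, h'⁆ * h) * h⁻¹ = h⁻¹ * ⁅g, h'⁆ by group,
      show h⁻¹ * (h * ⁅g, h'⁆) * h⁻¹ = ⁅g, h'⁆ * h⁻¹ by group] at this
    exact this.symm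
  calc ⁅g, h * h'⁆ = g * h * g⁻¹ * (⁅g, h'⁆ * h⁻¹) := by
        rw [commutatorElement_def, commutatorElement_def]; group
    _ = g * h * g⁻¹ * (h⁻¹ * ⁅g, h'⁆) := by rw [h1]
    _ = ⁅g, h⁆ * ⁅g, h'⁆ := by rw [commutatorElement_def g h]; group

theorem comm_mul_commuting_left {g h z : Γ} (hz : z * h = h * z) : ⁅g * z, h⁆ = ⁅g, h⁆ := by
  rw [commutatorElement_def, commutatorElement_def]
  calc g * z * h * (g * z)⁻¹ * h⁻¹ = g * (z * h) * z⁻¹ * g⁻¹ * h⁻¹ := by group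
    _ = g * (h * z) * z⁻¹ * g⁻¹ * h⁻¹ := by rw [hz]
    _ = g * h * g⁻¹ * h⁻¹ := by group

theorem comm_mul_commuting_right {g h z : Γ} (hz : z * g = g * z) : ⁅g, h * z⁆ = ⁅g, h⁆ := by
  have hzg : z * g⁻¹ = g⁻¹ * z := by
    have := congrArg (fun x => g⁻¹ * x * g⁻¹) hz
    beta_reduce at this
    rw [show g⁻¹ * (z * g) * g⁻¹ = g⁻¹ * z by group,
      show g⁻¹ * (g * z) * g⁻¹ = z * g⁻¹ by group] at this
    exact this.symm
  rw [commutatorElement_def, commutatorElement_def]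
  calc g * (h * z) * g⁻¹ * (h * z)⁻¹ = g * h * (z * g⁻¹) * z⁻¹ * h⁻¹ := by group
    _ = g * h * (g⁻¹ * z) * z⁻¹ * h⁻¹ := by rw [hzg]
    _ = g * h * g⁻¹ * h⁻¹ := by group

/-- an element whose commutators with `u₁`, `u₂` are central commutes with `⁅u₁, u₂⁆` -/
theorem comm_comm_eq_one {u₁ u₂ z : Γ} (h₁ : ⁅u₁, z⁆ ∈ Subgroup.center Γ)
    (h₂ : ⁅u₂, z⁆ ∈ Subgroup.center Γ) : ⁅⁅u₁, u₂⁆, z⁆ = 1 := by
  have key : ∀ u : Γ, ⁅u, z⁆ ∈ Subgroup.center Γ → z * u * z⁻¹ = u * ⁅u, z⁆⁻¹ := by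
    intro u hu
    have hc : ⁅u, z⁆⁻¹ * u = u * ⁅u, z⁆⁻¹ :=
      (Subgroup.mem_center_iff.1 (inv_mem hu) u).symm
    rw [← hc, commutatorElement_def]
    group
  have e : z * ⁅u₁, u₂⁆ * z⁻¹ = ⁅u₁, u₂⁆ := by
    rw [MultSL2.conj_comm, key u₁ h₁, key u₂ h₂, comm_mul_central_left (inv_mem h₁),
      comm_mul_central_right (inv_mem h₂)]
  rw [commutatorElement_def]
  have e' : z * ⁅u₁, u₂⁆ = ⁅u₁, u₂⁆ * z := by
    have := congrArg (fun x => x * z) e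
    simpa using this
  calc ⁅u₁, u₂⁆ * z * ⁅u₁, u₂⁆⁻¹ * z⁻¹ = (z * ⁅u₁, u₂⁆) * ⁅u₁, u₂⁆⁻¹ * z⁻¹ := by rw [e']
    _ = 1 := by group

theorem conj_eq_of_ker {G : Type*} [Group G] (σ : Γ →* G) (hcen : σ.ker ≤ Subgroup.center Γ)
    {g g' : Γ} (hg : σ g = σ g') (z : Γ) : g * z * g⁻¹ = g' * z * g'⁻¹ := by
  have hk : g⁻¹ * g' ∈ Subgroup.center Γ := hcen (by
    rw [MonoidHom.mem_ker, map_mul, map_inv, hg, inv_mul_cancel])
  have e1 : g' = g * (g⁻¹ * g') := by group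
  have hc : (g⁻¹ * g') * z = z * (g⁻¹ * g') := (Subgroup.mem_center_iff.1 hk z).symm
  rw [e1]
  calc g * z * g⁻¹ = g * (z * (g⁻¹ * g')) * (g⁻¹ * g')⁻¹ * g⁻¹ := by group
    _ = g * ((g⁻¹ * g') * z) * (g⁻¹ * g')⁻¹ * g⁻¹ := by rw [hc]
    _ = g * (g⁻¹ * g') * z * (g * (g⁻¹ * g'))⁻¹ := by group

/-- preimages of cyclic subgroups under central extensions are commutative -/
theorem comm_of_cyclic_image {G : Type*} [Group G] (σ : Γ →* G) (hsurj : Function.Surjective σ)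
    (hcen : σ.ker ≤ Subgroup.center Γ) (T : Subgroup G) (hT : IsCyclic T) :
    ∀ x ∈ T.comap σ, ∀ y ∈ T.comap σ, x * y = y * x := by
  obtain ⟨⟨g₀, hg₀⟩, hgen⟩ := IsCyclic.exists_generator (α := T)
  obtain ⟨x₀, hx₀⟩ := hsurj g₀
  have hdec : ∀ x ∈ T.comap σ, ∃ (i : ℤ) (k : Γ), k ∈ Subgroup.center Γ ∧ x = x₀ ^ i * k := by
    intro x hx
    have hx' : (⟨σ x, hx⟩ : T) ∈ Subgroup.zpowers (⟨g₀, hg₀⟩ : T) := hgen _
    obtain ⟨i, hi⟩ := Subgroup.mem_zpowers_iff.1 hx'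
    have hi' : g₀ ^ i = σ x := by
      have := congrArg (fun t : T => (t : G)) hi
      simpa using this
    refine ⟨i, (x₀ ^ i)⁻¹ * x, hcen ?_, by group⟩
    rw [MonoidHom.mem_ker, map_mul, map_inv, map_zpow, hx₀, hi', inv_mul_cancel]
  intro x hx y hy
  obtain ⟨i, k, hk, rfl⟩ := hdec x hx
  obtain ⟨j, k', hk', rfl⟩ := hdec y hy
  have c1 : ∀ t : Γ, k * t = t * k := fun t => (Subgroup.mem_center_iff.1 hk t).symm
  have c2 : ∀ t : Γ, k' * t = t * k' := fun t => (Subgroup.mem_center_iff.1 hk' t).symm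
  have c3 : x₀ ^ i * x₀ ^ j = x₀ ^ j * x₀ ^ i := by
    rw [← zpow_add, ← zpow_add, add_comm]
  calc x₀ ^ i * k * (x₀ ^ j * k') = x₀ ^ i * (k * x₀ ^ j) * k' := by group
    _ = x₀ ^ i * (x₀ ^ j * k) * k' := by rw [c1]
    _ = (x₀ ^ i * x₀ ^ j) * (k * k') := by group
    _ = (x₀ ^ j * x₀ ^ i) * (k' * k) := by rw [c3, c1 k']
    _ = x₀ ^ j * (x₀ ^ i * k') * k := by group
    _ = x₀ ^ j * (k' * x₀ ^ i) * k := by rw [c2]
    _ = x₀ ^ j * k' * (x₀ ^ i * k) := by group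

end general

section suz
variable {F : Type*} [Field F] [Fintype F] [CharP F 2] (m : ℕ)
variable (hF : Fintype.card F = 2 ^ (2 * m + 1))

theorem tT_zero_mul (a c b : F) : tT m hF a c * tT m hF 0 b = tT m hF a (c + b) := by
  rw [tT_mul]; congr 1 <;> simp

theorem tT_mul_zero' (a c b : F) : tT m hF 0 b * tT m hF a c = tT m hF a (c + b) := by
  rw [tT_mul]; congr 1
  · simp
  · rw [sg_zero]; ring

theorem tT_split (a c : F) : tT m hF a 0 * tT m hF 0 c = tT m hF a c := by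
  rw [tT_zero_mul, zero_add]

theorem dD_conj_tT (α : Fˣ) (a b : F) :
    dD m hF α * tT m hF a b * (dD m hF α)⁻¹ = tT m hF (α * a) (sg m (α : F) * α * b) := by
  rw [dD_mul_tT, mul_assoc, mul_inv_cancel, mul_one]

/-- the centre of the unipotent subgroup -/
def zS : Subgroup (Sz F m) where
  carrier := {g | ∃ b, g = tT m hF 0 b}
  mul_mem' := by
    rintro _ _ ⟨b, rfl⟩ ⟨b', rfl⟩
    exact ⟨b + b', tT_zero_mul m hF 0 b b'⟩
  one_mem' := ⟨0, (tT_zero m hF).symm⟩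
  inv_mem' := by
    rintro _ ⟨b, rfl⟩
    exact ⟨_, tT_inv m hF 0 b⟩

theorem mem_zS (g : Sz F m) : g ∈ zS m hF ↔ ∃ b, g = tT m hF 0 b := Iff.rfl

variable {Γ : Type*} [Group Γ] (σ : Γ →* Sz F m) (hsurj : Function.Surjective σ)
  (hcen : σ.ker ≤ Subgroup.center Γ)

/-- lifts of the unipotent elements -/
noncomputable def xt (a b : F) : Γ := Function.surjInv hsurj (tT m hF a b)

/-- lifts of the torus elements -/
noncomputable def ht (α : Fˣ) : Γ := Function.surjInv hsurj (dD m hF α)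

theorem σ_xt (a b : F) : σ (xt m hF σ hsurj a b) = tT m hF a b := Function.surjInv_eq hsurj _

theorem σ_ht (α : Fˣ) : σ (ht m hF σ hsurj α) = dD m hF α := Function.surjInv_eq hsurj _

include hsurj hcen

theorem comm_central {u z : Γ} {a c b : F} (hu : σ u = tT m hF a c) (hz : σ z = tT m hF 0 b) :
    ⁅u, z⁆ ∈ Subgroup.center Γ := by
  apply comm_mem_center σ hcen
  rw [hu, hz, tT_zero_mul, tT_mul_zero']

theorem comm_center_center (hm : 1 ≤ m) {z z' : Γ} {c b : F} (hz : σ z = tT m hF 0 c)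
    (hz' : σ z' = tT m hF 0 b) : ⁅z, z'⁆ = 1 := by
  obtain ⟨a₁, a₂, ha⟩ := exists_comm_form m hF hm c
  have h1 : σ ⁅xt m hF σ hsurj a₁ 0, xt m hF σ hsurj a₂ 0⁆ = σ z := by
    rw [map_commutatorElement, σ_xt, σ_xt, tau_comm m (tT m hF) (tT_mul m hF), ha, hz]
  rw [← comm_congr σ hcen h1 (rfl : σ z' = σ z')]
  exact comm_comm_eq_one (comm_central m hF σ hsurj hcen (σ_xt m hF σ hsurj _ _) hz')
    (comm_central m hF σ hsurj hcen (σ_xt m hF σ hsurj _ _) hz')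

/-- the pairing between `U / Z` and `Z` -/
noncomputable def bet (a b : F) : Subgroup.center Γ :=
  ⟨⁅xt m hF σ hsurj a 0, xt m hF σ hsurj 0 b⁆,
    comm_central m hF σ hsurj hcen (σ_xt m hF σ hsurj _ _) (σ_xt m hF σ hsurj _ _)⟩

theorem bet_add_left (hm : 1 ≤ m) (a a' b : F) :
    bet m hF σ hsurj hcen (a + a') b = bet m hF σ hsurj hcen a b * bet m hF σ hsurj hcen a' b := by
  apply Subtype.ext
  show ⁅xt m hF σ hsurj (a + a') 0, xt m hF σ hsurj 0 b⁆ =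
    ⁅xt m hF σ hsurj a 0, xt m hF σ hsurj 0 b⁆ * ⁅xt m hF σ hsurj a' 0, xt m hF σ hsurj 0 b⁆
  set z := xt m hF σ hsurj 0 b with hz
  have hσz : σ z = tT m hF 0 b := σ_xt m hF σ hsurj _ _
  have hc : ∀ a₀ : F, ⁅xt m hF σ hsurj a₀ 0, z⁆ ∈ Subgroup.center Γ := fun a₀ =>
    comm_central m hF σ hsurj hcen (σ_xt m hF σ hsurj _ _) hσz
  have e1 : ⁅xt m hF σ hsurj a 0 * xt m hF σ hsurj a' 0, z⁆ =
      ⁅xt m hF σ hsurj a' 0, z⁆ * ⁅xt m hF σ hsurj a 0, z⁆ := comm_mul_left (hc a')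
  have e2 : ⁅xt m hF σ hsurj a 0 * xt m hF σ hsurj a' 0, z⁆ =
      ⁅xt m hF σ hsurj (a + a') 0 * xt m hF σ hsurj 0 (sg m a * a'), z⁆ := by
    apply comm_congr σ hcen _ rfl
    rw [map_mul, map_mul, σ_xt, σ_xt, σ_xt, σ_xt, tT_mul, tT_split]
    congr 1; ring
  have e3 : ⁅xt m hF σ hsurj (a + a') 0 * xt m hF σ hsurj 0 (sg m a * a'), z⁆ =
      ⁅xt m hF σ hsurj (a + a') 0, z⁆ := by
    rw [comm_mul_left (comm_central m hF σ hsurj hcen (σ_xt m hF σ hsurj _ _) hσz),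
      comm_center_center m hF σ hsurj hcen hm (σ_xt m hF σ hsurj _ _) hσz, one_mul]
  rw [← e3, ← e2, e1]
  exact (Subgroup.mem_center_iff.1 (hc a') _).symm

theorem bet_add_right (a b b' : F) :
    bet m hF σ hsurj hcen a (b + b') = bet m hF σ hsurj hcen a b * bet m hF σ hsurj hcen a b' := by
  apply Subtype.ext
  show ⁅xt m hF σ hsurj a 0, xt m hF σ hsurj 0 (b + b')⁆ =
    ⁅xt m hF σ hsurj a 0, xt m hF σ hsurj 0 b⁆ * ⁅xt m hF σ hsurj a 0, xt m hF σ hsurj 0 b'⁆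
  rw [← comm_mul_right (comm_central m hF σ hsurj hcen (σ_xt m hF σ hsurj _ _) (σ_xt m hF σ hsurj _ _))]
  apply comm_congr σ hcen rfl
  rw [map_mul, σ_xt, σ_xt, σ_xt, tT_zero_mul]

theorem bet_inv (l : F) (hl : l ≠ 0) (a b : F) :
    bet m hF σ hsurj hcen (l * a) (sg m l * l * b) = bet m hF σ hsurj hcen a b := by
  apply Subtype.ext
  show ⁅xt m hF σ hsurj (l * a) 0, xt m hF σ hsurj 0 (sg m l * l * b)⁆ =
    ⁅xt m hF σ hsurj a 0, xt m hF σ hsurj 0 b⁆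
  set h := ht m hF σ hsurj (Units.mk0 l hl) with hh
  have hσh : σ h = dD m hF (Units.mk0 l hl) := σ_ht m hF σ hsurj _
  have e1 : ⁅xt m hF σ hsurj (l * a) 0, xt m hF σ hsurj 0 (sg m l * l * b)⁆ =
      ⁅h * xt m hF σ hsurj a 0 * h⁻¹, h * xt m hF σ hsurj 0 b * h⁻¹⁆ := by
    apply comm_congr σ hcen
    · rw [map_mul, map_mul, map_inv, hσh, σ_xt, σ_xt, dD_conj_tT, Units.val_mk0, mul_zero]
    · rw [map_mul, map_mul, map_inv, hσh, σ_xt, σ_xt, dD_conj_tT, Units.val_mk0, mul_zero]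
  rw [e1, ← MultSL2.conj_comm]
  have hc := comm_central m hF σ hsurj hcen (σ_xt m hF σ hsurj a 0) (σ_xt m hF σ hsurj 0 b)
  rw [(Subgroup.mem_center_iff.1 hc h), mul_assoc, mul_inv_cancel, mul_one]

/-- `Z̃` is central in `Ũ` -/
theorem comm_unip_center (hm : 2 ≤ m) {u z : Γ} {a c b : F} (hu : σ u = tT m hF a c)
    (hz : σ z = tT m hF 0 b) : u * z = z * u := by
  have hm1 : 1 ≤ m := by omega
  have h1 : bet m hF σ hsurj hcen a b = 1 :=
    suz_pairing_trivial m hm hF (bet m hF σ hsurj hcen) (bet_add_left m hF σ hsurj hcen hm1)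
      (bet_add_right m hF σ hsurj hcen) (bet_inv m hF σ hsurj hcen) a b
  have h2 : ⁅xt m hF σ hsurj a 0, xt m hF σ hsurj 0 b⁆ = 1 := congrArg Subtype.val h1
  have h3 : ⁅u, z⁆ = ⁅xt m hF σ hsurj a 0 * xt m hF σ hsurj 0 c, xt m hF σ hsurj 0 b⁆ := by
    apply comm_congr σ hcen
    · rw [hu, map_mul, σ_xt, σ_xt, tT_split]
    · rw [hz, σ_xt]
  rw [comm_mul_left (comm_central m hF σ hsurj hcen (σ_xt m hF σ hsurj _ _) (σ_xt m hF σ hsurj _ _)),
    comm_center_center m hF σ hsurj hcen hm1 (σ_xt m hF σ hsurj _ _) (σ_xt m hF σ hsurj _ _),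
    one_mul, h2] at h3
  exact commutatorElement_eq_one_iff_mul_comm.1 h3

theorem ztil_comm (hm : 2 ≤ m) :
    ∀ x ∈ (zS m hF).comap σ, ∀ y ∈ (zS m hF).comap σ, x * y = y * x := by
  intro x hx y hy
  obtain ⟨c, hx⟩ := (mem_zS m hF _).1 (Subgroup.mem_comap.1 hx)
  obtain ⟨b, hy⟩ := (mem_zS m hF _).1 (Subgroup.mem_comap.1 hy)
  exact comm_unip_center m hF σ hsurj hcen hm hx hy

theorem ker_le_ztil : σ.ker ≤ (zS m hF).comap σ := by
  intro a ha
  rw [Subgroup.mem_comap, MonoidHom.mem_ker.1 ha]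
  exact one_mem _

theorem σ_gam (a b : F) : σ ⁅xt m hF σ hsurj a 0, xt m hF σ hsurj b 0⁆ =
    tT m hF 0 (sg m a * b + sg m b * a) := by
  rw [map_commutatorElement, σ_xt, σ_xt, tau_comm m (tT m hF) (tT_mul m hF)]

theorem gam_add_left (hm : 2 ≤ m) (a a' b : F) :
    ⁅xt m hF σ hsurj (a + a') 0, xt m hF σ hsurj b 0⁆ =
      ⁅xt m hF σ hsurj a 0, xt m hF σ hsurj b 0⁆ * ⁅xt m hF σ hsurj a' 0, xt m hF σ hsurj b 0⁆ := by
  set w := xt m hF σ hsurj b 0 with hw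
  have hσw : σ w = tT m hF b 0 := σ_xt m hF σ hsurj _ _
  have e1 : ⁅xt m hF σ hsurj a 0 * xt m hF σ hsurj a' 0, w⁆ =
      ⁅xt m hF σ hsurj a' 0, w⁆ * ⁅xt m hF σ hsurj a 0, w⁆ := by
    apply comm_mul_left'
    exact (comm_unip_center m hF σ hsurj hcen hm (σ_xt m hF σ hsurj a 0)
      (σ_gam m hF σ hsurj hcen a' b)).symm
  have e2 : ⁅xt m hF σ hsurj a 0 * xt m hF σ hsurj a' 0, w⁆ =
      ⁅xt m hF σ hsurj (a + a') 0 * xt m hF σ hsurj 0 (sg m a * a'), w⁆ := by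
    apply comm_congr σ hcen _ rfl
    rw [map_mul, map_mul, σ_xt, σ_xt, σ_xt, σ_xt, tT_mul, tT_split]
    congr 1; ring
  have e3 : ⁅xt m hF σ hsurj (a + a') 0 * xt m hF σ hsurj 0 (sg m a * a'), w⁆ =
      ⁅xt m hF σ hsurj (a + a') 0, w⁆ := by
    apply comm_mul_commuting_left
    exact (comm_unip_center m hF σ hsurj hcen hm hσw (σ_xt m hF σ hsurj 0 _)).symm
  rw [← e3, ← e2, e1]
  exact (comm_unip_center m hF σ hsurj hcen hm (σ_gam m hF σ hsurj hcen a' b)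
    (σ_gam m hF σ hsurj hcen a b))

theorem gam_add_right (hm : 2 ≤ m) (a b b' : F) :
    ⁅xt m hF σ hsurj a 0, xt m hF σ hsurj (b + b') 0⁆ =
      ⁅xt m hF σ hsurj a 0, xt m hF σ hsurj b 0⁆ * ⁅xt m hF σ hsurj a 0, xt m hF σ hsurj b' 0⁆ := by
  set x := xt m hF σ hsurj a 0 with hx
  have hσx : σ x = tT m hF a 0 := σ_xt m hF σ hsurj _ _
  have e1 : ⁅x, xt m hF σ hsurj b 0 * xt m hF σ hsurj b' 0⁆ =
      ⁅x, xt m hF σ hsurj b 0⁆ * ⁅x, xt m hF σ hsurj b' 0⁆ := by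
    apply comm_mul_right'
    exact (comm_unip_center m hF σ hsurj hcen hm (σ_xt m hF σ hsurj b 0)
      (σ_gam m hF σ hsurj hcen a b')).symm
  have e2 : ⁅x, xt m hF σ hsurj b 0 * xt m hF σ hsurj b' 0⁆ =
      ⁅x, xt m hF σ hsurj (b + b') 0 * xt m hF σ hsurj 0 (sg m b * b')⁆ := by
    apply comm_congr σ hcen rfl
    rw [map_mul, map_mul, σ_xt, σ_xt, σ_xt, σ_xt, tT_mul, tT_split]
    congr 1; ring
  have e3 : ⁅x, xt m hF σ hsurj (b + b') 0 * xt m hF σ hsurj 0 (sg m b * b')⁆ =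
      ⁅x, xt m hF σ hsurj (b + b') 0⁆ := by
    apply comm_mul_commuting_right
    exact (comm_unip_center m hF σ hsurj hcen hm hσx (σ_xt m hF σ hsurj 0 _)).symm
  rw [← e3, ← e2, e1]

theorem gam_conj (l : F) (hl : l ≠ 0) (a b : F) :
    ht m hF σ hsurj (Units.mk0 l hl) * ⁅xt m hF σ hsurj a 0, xt m hF σ hsurj b 0⁆ *
      (ht m hF σ hsurj (Units.mk0 l hl))⁻¹ =
      ⁅xt m hF σ hsurj (l * a) 0, xt m hF σ hsurj (l * b) 0⁆ := by
  rw [MultSL2.conj_comm]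
  apply comm_congr σ hcen
  · rw [map_mul, map_mul, map_inv, σ_ht, σ_xt, σ_xt, dD_conj_tT, Units.val_mk0, mul_zero]
  · rw [map_mul, map_mul, map_inv, σ_ht, σ_xt, σ_xt, dD_conj_tT, Units.val_mk0, mul_zero]

/-- commutators of the preimage of `U` are values of the commutator pairing -/
theorem comm_util (hm : 2 ≤ m) {u v : Γ} (hu : u ∈ (uSub m hF).comap σ)
    (hv : v ∈ (uSub m hF).comap σ) :
    ∃ a a' : F, ⁅u, v⁆ = ⁅xt m hF σ hsurj a 0, xt m hF σ hsurj a' 0⁆ := by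
  obtain ⟨a, c, hu⟩ := (mem_uSub m hF _).1 (Subgroup.mem_comap.1 hu)
  obtain ⟨a', c', hv⟩ := (mem_uSub m hF _).1 (Subgroup.mem_comap.1 hv)
  refine ⟨a, a', ?_⟩
  have e1 : ⁅u, v⁆ = ⁅xt m hF σ hsurj a 0 * xt m hF σ hsurj 0 c,
      xt m hF σ hsurj a' 0 * xt m hF σ hsurj 0 c'⁆ := by
    apply comm_congr σ hcen
    · rw [hu, map_mul, σ_xt, σ_xt, tT_split]
    · rw [hv, map_mul, σ_xt, σ_xt, tT_split]
  have hσv : σ (xt m hF σ hsurj a' 0 * xt m hF σ hsurj 0 c') = tT m hF a' c' := by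
    rw [map_mul, σ_xt, σ_xt, tT_split]
  rw [e1, comm_mul_commuting_left
      (comm_unip_center m hF σ hsurj hcen hm hσv (σ_xt m hF σ hsurj 0 c)).symm,
    comm_mul_commuting_right
      (comm_unip_center m hF σ hsurj hcen hm (σ_xt m hF σ hsurj a 0) (σ_xt m hF σ hsurj 0 c')).symm]

omit hcen in
/-- conjugation by the torus lifts on `Z̃` -/
noncomputable def cj (α : Fˣ) : ↥((zS m hF).comap σ) →* ↥((zS m hF).comap σ) where
  toFun z := ⟨ht m hF σ hsurj α * z * (ht m hF σ hsurj α)⁻¹, by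
    obtain ⟨b, hb⟩ := (mem_zS m hF _).1 (Subgroup.mem_comap.1 z.2)
    rw [Subgroup.mem_comap, map_mul, map_mul, map_inv, σ_ht, hb, dD_conj_tT, mul_zero]
    exact ⟨_, rfl⟩⟩
  map_one' := by
    apply Subtype.ext
    show ht m hF σ hsurj α * 1 * (ht m hF σ hsurj α)⁻¹ = 1
    group
  map_mul' x y := by
    apply Subtype.ext
    show ht m hF σ hsurj α * ((x : Γ) * y) * (ht m hF σ hsurj α)⁻¹ =
      ht m hF σ hsurj α * x * (ht m hF σ hsurj α)⁻¹ * (ht m hF σ hsurj α * y * (ht m hF σ hsurj α)⁻¹)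
    group

omit hcen in
theorem cj_coe (α : Fˣ) (z : ↥((zS m hF).comap σ)) :
    ((cj m hF σ hsurj α z : ↥((zS m hF).comap σ)) : Γ) =
      ht m hF σ hsurj α * z * (ht m hF σ hsurj α)⁻¹ := rfl

theorem cj_cj (α β : Fˣ) (z : ↥((zS m hF).comap σ)) :
    cj m hF σ hsurj α (cj m hF σ hsurj β z) = cj m hF σ hsurj (α * β) z := by
  apply Subtype.ext
  rw [cj_coe, cj_coe, cj_coe]
  have h1 : σ (ht m hF σ hsurj α * ht m hF σ hsurj β) = σ (ht m hF σ hsurj (α * β)) := by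
    rw [map_mul, σ_ht, σ_ht, σ_ht, dD_mul]
  rw [← conj_eq_of_ker σ hcen h1 (z : Γ)]
  group

theorem cj_ker (α : Fˣ) (z : ↥((zS m hF).comap σ)) (hz : (z : Γ) ∈ σ.ker) :
    cj m hF σ hsurj α z = z := by
  apply Subtype.ext
  rw [cj_coe, Subgroup.mem_center_iff.1 (hcen hz), mul_assoc, mul_inv_cancel, mul_one]

section nrm
open scoped Classical
variable [hZc : IsMulCommutative ↥((zS m hF).comap σ)]

omit hcen in
/-- the norm map of the torus action on `Z̃` -/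
noncomputable def nrm : ↥((zS m hF).comap σ) →* ↥((zS m hF).comap σ) where
  toFun z := ∏ α : Fˣ, cj m hF σ hsurj α z
  map_one' := by simp
  map_mul' x y := by simp [Finset.prod_mul_distrib]

omit hcen in
theorem nrm_apply (z : ↥((zS m hF).comap σ)) :
    nrm m hF σ hsurj z = ∏ α : Fˣ, cj m hF σ hsurj α z := rfl

theorem nrm_cj (β : Fˣ) (z : ↥((zS m hF).comap σ)) :
    nrm m hF σ hsurj (cj m hF σ hsurj β z) = nrm m hF σ hsurj z := by
  rw [nrm_apply, nrm_apply]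
  have : ∀ α : Fˣ, cj m hF σ hsurj α (cj m hF σ hsurj β z) = cj m hF σ hsurj (α * β) z :=
    fun α => cj_cj m hF σ hsurj hcen α β z
  simp only [this]
  exact Fintype.prod_equiv (Equiv.mulRight β) _ _ (fun α => rfl)

theorem nrm_ker (z : ↥((zS m hF).comap σ)) (hz : (z : Γ) ∈ σ.ker) :
    nrm m hF σ hsurj z = z ^ (2 ^ (2 * m + 1) - 1) := by
  rw [nrm_apply]
  have : ∀ α : Fˣ, cj m hF σ hsurj α z = z := fun α => cj_ker m hF σ hsurj hcen α z hz
  simp only [this]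
  rw [Finset.prod_const, Finset.card_univ, Fintype.card_units, hF]

/-- the elements of `Z̃` given by the commutator pairing -/
noncomputable def gam (a b : F) : ↥((zS m hF).comap σ) :=
  ⟨⁅xt m hF σ hsurj a 0, xt m hF σ hsurj b 0⁆, by
    rw [Subgroup.mem_comap, σ_gam m hF σ hsurj hcen]
    exact ⟨_, rfl⟩⟩

theorem nrm_gam (hm : 2 ≤ m) (a b : F) : nrm m hF σ hsurj (gam m hF σ hsurj hcen a b) = 1 := by
  have h32 : 32 ≤ 2 ^ (2 * m + 1) := by
    calc 32 = 2 ^ 5 := by norm_num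
      _ ≤ 2 ^ (2 * m + 1) := Nat.pow_le_pow_right (by norm_num) (by omega)
  refine pairing_trivial (fun a b => nrm m hF σ hsurj (gam m hF σ hsurj hcen a b)) ?_ ?_ ?_ ?_ ?_ ?_ a b
  · intro a a' b
    show nrm m hF σ hsurj _ = nrm m hF σ hsurj _ * nrm m hF σ hsurj _
    rw [← map_mul]
    congr 1
    apply Subtype.ext
    exact gam_add_left m hF σ hsurj hcen hm a a' b
  · intro a b b'
    show nrm m hF σ hsurj _ = nrm m hF σ hsurj _ * nrm m hF σ hsurj _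
    rw [← map_mul]
    congr 1
    apply Subtype.ext
    exact gam_add_right m hF σ hsurj hcen hm a b b'
  · intro a
    show nrm m hF σ hsurj _ = 1
    have : gam m hF σ hsurj hcen a a = 1 := by
      apply Subtype.ext
      exact commutatorElement_self _
    rw [this, map_one]
  · intro t ht a b
    show nrm m hF σ hsurj _ = nrm m hF σ hsurj _
    have ht2 : t ^ 2 ≠ 0 := pow_ne_zero _ ht
    have : gam m hF σ hsurj hcen (t ^ 2 * a) (t ^ 2 * b) =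
        cj m hF σ hsurj (Units.mk0 (t ^ 2) ht2) (gam m hF σ hsurj hcen a b) := by
      apply Subtype.ext
      rw [cj_coe]
      exact (gam_conj m hF σ hsurj hcen (t ^ 2) ht2 a b).symm
    rw [this, nrm_cj m hF σ hsurj hcen]
  · rw [hF]; omega
  · rw [hF]; omega

end nrm

omit hcen in
theorem index_util (hm : 1 ≤ m) :
    ((uSub m hF).comap σ).index = ((2 ^ (2 * m + 1)) ^ 2 + 1) * (2 ^ (2 * m + 1) - 1) := by
  rw [Subgroup.index_comap_of_surjective _ hsurj]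
  have h1 := (uSub m hF).card_mul_index
  rw [card_uSub m hF, card_Sz m hF hm, mul_assoc] at h1
  exact Nat.eq_of_mul_eq_mul_left (by positivity) h1

include hF in
/-- the `2`-part: kernel elements are killed by an odd number -/
theorem two_part (hm : 2 ≤ m) [Finite Γ] (a : Γ) (ha : a ∈ σ.ker) (had : a ∈ commutator Γ) :
    (a ^ (((2 ^ (2 * m + 1)) ^ 2 + 1) * (2 ^ (2 * m + 1) - 1))) ^ (2 ^ (2 * m + 1) - 1) = 1 := by
  classical
  haveI hZc : IsMulCommutative ↥((zS m hF).comap σ) :=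
    ⟨⟨fun x y => Subtype.ext (ztil_comm m hF σ hsurj hcen hm x x.2 y y.2)⟩⟩
  set K : Subgroup Γ := (nrm m hF σ hsurj).ker.map (Subgroup.subtype _) with hK
  have hcomm : ∀ x ∈ (uSub m hF).comap σ, ∀ y ∈ (uSub m hF).comap σ, ⁅x, y⁆ ∈ K := by
    intro x hx y hy
    obtain ⟨a₁, a₂, he⟩ := comm_util m hF σ hsurj hcen hm hx hy
    rw [hK, Subgroup.mem_map]
    refine ⟨gam m hF σ hsurj hcen a₁ a₂, ?_, he.symm⟩
    rw [MonoidHom.mem_ker]
    exact nrm_gam m hF σ hsurj hcen hm a₁ a₂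
  have h1 := pow_index_mem_of_commutator_le ((uSub m hF).comap σ) K hcomm a (hcen ha) had
  rw [index_util m hF σ hsurj (by omega)] at h1
  rw [hK, Subgroup.mem_map] at h1
  obtain ⟨z, hz, hza⟩ := h1
  rw [MonoidHom.mem_ker] at hz
  have hzk : (z : Γ) ∈ σ.ker := by
    have : (z : Γ) = a ^ (((2 ^ (2 * m + 1)) ^ 2 + 1) * (2 ^ (2 * m + 1) - 1)) := hza
    rw [this]
    exact pow_mem ha _
  rw [nrm_ker m hF σ hsurj hcen z hzk] at hz
  have := congrArg (fun t : ↥((zS m hF).comap σ) => (t : Γ)) hz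
  simp only [Subgroup.coe_pow, Subgroup.coe_one] at this
  rw [← this]
  congr 1
  exact hza.symm

/-- the odd parts: kernel elements are killed by the index of every cyclic subgroup -/
theorem odd_part [Finite Γ] (T : Subgroup (Sz F m)) (hT : IsCyclic T) (a : Γ) (ha : a ∈ σ.ker)
    (had : a ∈ commutator Γ) : a ^ T.index = 1 := by
  have := pow_index_eq_one_of_commutative (T.comap σ)
    (comm_of_cyclic_image σ hsurj hcen T hT) a (hcen ha) had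
  rwa [Subgroup.index_comap_of_surjective _ hsurj] at this

omit hsurj hcen in
include hF in
theorem index_of_card (hm : 1 ≤ m) (T : Subgroup (Sz F m)) (k c : ℕ) (hk : Nat.card T = k)
    (hc : (2 ^ (2 * m + 1)) ^ 2 * ((2 ^ (2 * m + 1)) ^ 2 + 1) * (2 ^ (2 * m + 1) - 1) = k * c)
    (hk0 : 0 < k) : T.index = c := by
  have h1 := T.card_mul_index
  rw [card_Sz m hF hm, hk, hc] at h1
  exact Nat.eq_of_mul_eq_mul_left hk0 h1

end suz

section arith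

theorem not_dvd_of_coprime {p a b : ℕ} (hp : p.Prime) (h : Nat.Coprime a b) (ha : p ∣ a)
    (hb : p ∣ b) : False := by
  have h3 := Nat.dvd_gcd ha hb
  rw [Nat.Coprime.gcd_eq_one h] at h3
  exact hp.not_dvd_one h3

theorem not_dvd_of_odd {p k n : ℕ} (hp : p.Prime) (hk : k % 2 = 1) (ha : p ∣ (2 ^ n) ^ 2)
    (hb : p ∣ k) : False := by
  have h2 : p = 2 :=
    (Nat.prime_dvd_prime_iff_eq hp Nat.prime_two).1 (hp.dvd_of_dvd_pow (hp.dvd_of_dvd_pow ha))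
  subst h2
  omega

theorem arith_final (m p : ℕ) (hp : p.Prime)
    (d0 : p ∣ (2 ^ (2 * m + 1)) ^ 2 * ((2 ^ (2 * m + 1)) ^ 2 + 1))
    (d1 : p ∣ (2 ^ (2 * m + 1)) ^ 2 * (2 ^ (2 * m + 1) - 2 ^ (m + 1) + 1) * (2 ^ (2 * m + 1) - 1))
    (d2 : p ∣ (2 ^ (2 * m + 1)) ^ 2 * (2 ^ (2 * m + 1) + 2 ^ (m + 1) + 1) * (2 ^ (2 * m + 1) - 1))
    (d3 : p ∣ ((2 ^ (2 * m + 1)) ^ 2 + 1) * (2 ^ (2 * m + 1) - 1) * (2 ^ (2 * m + 1) - 1)) :
    False := by
  have hN : ((2 ^ (2 * m + 1)) ^ 2 + 1) % 2 = 1 := N_odd m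
  have hA : p ∣ 2 ^ (2 * m + 1) - 1 → False := by
    intro h
    rcases (Nat.Prime.dvd_mul hp).1 d0 with h' | h'
    · exact not_dvd_of_odd hp (k1_odd m) h' h
    · exact not_dvd_of_coprime hp (cop_k1_N m) h h'
  rcases (Nat.Prime.dvd_mul hp).1 d3 with h | h
  · rcases (Nat.Prime.dvd_mul hp).1 h with h | h
    · rw [← k2_mul_k3] at h
      rcases (Nat.Prime.dvd_mul hp).1 h with h | h
      · rcases (Nat.Prime.dvd_mul hp).1 d1 with h' | h'
        · rcases (Nat.Prime.dvd_mul hp).1 h' with h' | h'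
          · exact not_dvd_of_odd hp (k2_odd m) h' h
          · exact not_dvd_of_coprime hp (cop_k2_k3 m) h h'
        · exact hA h'
      · rcases (Nat.Prime.dvd_mul hp).1 d2 with h' | h'
        · rcases (Nat.Prime.dvd_mul hp).1 h' with h' | h'
          · exact not_dvd_of_odd hp (k3_odd m) h' h
          · exact not_dvd_of_coprime hp (cop_k2_k3 m) h' h
        · exact hA h'
    · exact hA h
  · exact hA h

end arith

section final
variable {F : Type*} [Field F] [Fintype F] [CharP F 2] (m : ℕ)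
variable (hF : Fintype.card F = 2 ^ (2 * m + 1))
variable {Γ : Type*} [Group Γ] [Finite Γ] (σ : Γ →* Sz F m)

include hF in
/-- **Sz(q)**, `q ≥ 32`: every finite stem extension is an isomorphism -/
theorem ker_eq_bot_of_stem (hm : 2 ≤ m) (hsurj : Function.Surjective σ)
    (hcen : σ.ker ≤ Subgroup.center Γ) (hder : σ.ker ≤ commutator Γ) : σ.ker = ⊥ := by
  have hm1 : 1 ≤ m := by omega
  rw [eq_bot_iff]
  intro a ha
  rw [Subgroup.mem_bot]
  obtain ⟨A₁, A₂, h₁, h₂, c₁, c₂, -, -, -⟩ := tori_main m hF hm1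
  have hq1 : 1 ≤ 2 ^ (2 * m + 1) := Nat.one_le_two_pow
  have i0 : (dSub m hF).index = (2 ^ (2 * m + 1)) ^ 2 * ((2 ^ (2 * m + 1)) ^ 2 + 1) :=
    index_of_card m hF hm1 _ _ _ (card_dSub m hF) (by ring) (by omega)
  have i1 : A₁.index =
      (2 ^ (2 * m + 1)) ^ 2 * (2 ^ (2 * m + 1) - 2 ^ (m + 1) + 1) * (2 ^ (2 * m + 1) - 1) :=
    index_of_card m hF hm1 _ _ _ c₁ (by rw [← k2_mul_k3]; ring) (by omega)
  have i2 : A₂.index =
      (2 ^ (2 * m + 1)) ^ 2 * (2 ^ (2 * m + 1) + 2 ^ (m + 1) + 1) * (2 ^ (2 * m + 1) - 1) :=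
    index_of_card m hF hm1 _ _ _ c₂ (by rw [← k2_mul_k3]; ring) (by omega)
  have p0 := odd_part m σ hsurj hcen _ (isCyclic_dSub m hF) a ha (hder ha)
  have p1 := odd_part m σ hsurj hcen _ (h₁.isCyclic m hF hm1) a ha (hder ha)
  have p2 := odd_part m σ hsurj hcen _ (h₂.isCyclic m hF hm1) a ha (hder ha)
  have p3 := two_part m hF σ hsurj hcen hm a ha (hder ha)
  rw [i0] at p0
  rw [i1] at p1
  rw [i2] at p2
  rw [← pow_mul] at p3
  by_contra hne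
  have ho : orderOf a ≠ 1 := fun h => hne (orderOf_eq_one_iff.1 h)
  obtain ⟨p, hp, hpa⟩ := Nat.exists_prime_and_dvd ho
  exact arith_final m p hp (hpa.trans (orderOf_dvd_of_pow_eq_one p0))
    (hpa.trans (orderOf_dvd_of_pow_eq_one p1)) (hpa.trans (orderOf_dvd_of_pow_eq_one p2))
    (hpa.trans (orderOf_dvd_of_pow_eq_one p3))

end final

end Cfsg.Agent.Lib.Helper5.MultSz
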